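import Mathlib
import Groth.Agent.Lib.Helper5.ExtAnn.C

/-!
# The annihilator of the top exterior power of `P / R v` (helper3)

For `P` finite projective of constant rank `n` over `R`, `v ∈ P` and `M = P / R v`:
`Ann (⋀ⁿ M)` is the ideal of the values `ψ v`, `ψ` ranging over the dual of `P`.
-/

set_option autoImplicit false
universe u
open TensorProduct

namespace Groth.Agent.H3.ExtAnnEq

section A
variable {R : Type*} [CommRing R] {T : Type*} [CommRing T] [Algebra R T]
  {M : Type*} [AddCommGroup M] [Module R M]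
  {Q : Type*} [AddCommGroup Q] [Module R Q] [Module T Q] [IsScalarTower R T Q]

/-- restriction of scalars for a `T`-alternating map with values in `T`. -/
noncomputable def altRestrict {n : ℕ} (f : Q [⋀^Fin n]→ₗ[T] T) : Q [⋀^Fin n]→ₗ[R] T :=
  { f.toMultilinearMap.restrictScalars R with
    map_eq_zero_of_eq' := fun v i j h hij => f.map_eq_zero_of_eq v h hij }

lemma altRestrict_apply {n : ℕ} (f : Q [⋀^Fin n]→ₗ[T] T) (v : Fin n → Q) :
    altRestrict (R := R) f v = f v := rfl

/-- If `ℓ : M → Q` has `T`-spanning image in a free `T`-module `Q` of rank `n`, then the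
annihilator of `⋀ⁿ_R M` dies in `T`. -/
theorem algebraMap_eq_zero_of_mem_annihilator (n : ℕ) (ℓ : M →ₗ[R] Q)
    (hℓ : Submodule.span T (Set.range ℓ) = ⊤) (b : Module.Basis (Fin n) T Q) (r : R)
    (hr : r ∈ (⋀[R]^n M).annihilator) : algebraMap R T r = 0 := by
  classical
  let D : M [⋀^Fin n]→ₗ[R] T := (altRestrict (R := R) b.det).compLinearMap ℓ
  have h1 : ∀ x : Fin n → M, algebraMap R T r * b.det (fun i => ℓ (x i)) = 0 := by
    intro x
    have h0 : r • exteriorPower.ιMulti R n x = 0 := Module.mem_annihilator.mp hr _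
    have h := congrArg (exteriorPower.alternatingMapLinearEquiv D) h0
    rw [map_smul, exteriorPower.alternatingMapLinearEquiv_apply_ιMulti, map_zero] at h
    rw [← Algebra.smul_def]
    exact h
  have h2 : ∀ ω : ⋀[T]^n Q,
      algebraMap R T r * (exteriorPower.alternatingMapLinearEquiv b.det) ω = 0 := by
    intro ω
    have hω : ω ∈ Submodule.span T
        (exteriorPower.ιMulti T n '' {a : Fin n → Q | Set.range a ⊆ Set.range ℓ}) := by
      rw [exteriorPower.ιMulti_span_of_span T n Q hℓ]; trivial
    induction hω using Submodule.span_induction with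
    | mem y hy =>
      obtain ⟨a, ha, rfl⟩ := hy
      have ha' : ∀ i, ∃ m, ℓ m = a i := fun i => ha ⟨i, rfl⟩
      choose x hx using ha'
      have hax : a = fun i => ℓ (x i) := funext fun i => (hx i).symm
      rw [hax, exteriorPower.alternatingMapLinearEquiv_apply_ιMulti]
      exact h1 x
    | zero => rw [map_zero, mul_zero]
    | add y z _ _ hy hz => rw [map_add, mul_add, hy, hz, add_zero]
    | smul t y _ hy => rw [map_smul, smul_eq_mul, mul_left_comm, hy, mul_zero]
  have h3 := h2 (exteriorPower.ιMulti T n b)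
  rw [exteriorPower.alternatingMapLinearEquiv_apply_ιMulti, b.det_self, mul_one] at h3
  exact h3

end A

section B
variable {R : Type u} [CommRing R]

/-- `⋀ᵏ P = 0` if all fibres of the finite module `P` have dimension `< k`. -/
theorem exteriorPower_eq_zero_of_finrank_lt (P : Type u) [AddCommGroup P] [Module R P]
    [Module.Finite R P] (k : ℕ)
    (h : ∀ p : PrimeSpectrum R,
      Module.finrank p.asIdeal.ResidueField (p.asIdeal.ResidueField ⊗[R] P) < k)
    (x : ⋀[R]^k P) : x = 0 := by
  by_contra hx
  let I : Ideal R := LinearMap.ker (LinearMap.toSpanSingleton R (⋀[R]^k P) x)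
  have hI : I ≠ ⊤ := by
    intro h1
    have h2 : (1 : R) ∈ I := h1 ▸ Submodule.mem_top
    have h3 : (1 : R) • x = 0 := by
      have := LinearMap.mem_ker.mp h2
      rwa [LinearMap.toSpanSingleton_apply] at this
    exact hx (by rwa [one_smul] at h3)
  obtain ⟨m, hm, hIm⟩ := Ideal.exists_le_maximal I hI
  obtain ⟨s, hs, hsx⟩ := Groth.Agent.H5.ExtAnn.exists_smul_eq_zero P ⟨m, hm.isPrime⟩ k (h _) x
  refine hs (hIm ?_)
  show s ∈ LinearMap.ker (LinearMap.toSpanSingleton R (⋀[R]^k P) x)
  rw [LinearMap.mem_ker, LinearMap.toSpanSingleton_apply]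
  exact hsx

variable {P M : Type u} [AddCommGroup P] [Module R P] [AddCommGroup M] [Module R M]

/-- If `⋀ⁿ⁺¹ P = 0` and `M` is a quotient of `P` killing `v`, then every `ψ v` kills `⋀ⁿ M`. -/
theorem dual_apply_mem_annihilator (n : ℕ) (hP : ∀ x : ⋀[R]^(n + 1) P, x = 0)
    (π : P →ₗ[R] M) (hπ : Function.Surjective π) (v : P) (hv : π v = 0)
    (ψ : Module.Dual R P) : ψ v ∈ (⋀[R]^n M).annihilator := by
  rw [Module.mem_annihilator]
  intro ω
  have hω : ω ∈ Submodule.span R (Set.range (exteriorPower.ιMulti R n (M := M))) := by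
    rw [exteriorPower.ιMulti_span]; trivial
  induction hω using Submodule.span_induction with
  | mem y hy =>
    obtain ⟨mbar, rfl⟩ := hy
    choose m hm using fun i => hπ (mbar i)
    have hmm : mbar = π ∘ m := funext fun i => (hm i).symm
    have hx : ExteriorAlgebra.ι R v * ExteriorAlgebra.ιMulti R n m = 0 := by
      have h0 := hP (exteriorPower.ιMulti R (n + 1) (Matrix.vecCons v m))
      have h1 := congrArg Subtype.val h0
      rw [exteriorPower.ιMulti_apply_coe, ExteriorAlgebra.ιMulti_succ_apply] at h1
      simpa using h1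
    have key : ψ v • ExteriorAlgebra.ιMulti R n m =
        ExteriorAlgebra.ι R v *
          (CliffordAlgebra.contractLeft (Q := (0 : QuadraticForm R P)) ψ
            (ExteriorAlgebra.ιMulti R n m)) := by
      have h2 := congrArg (CliffordAlgebra.contractLeft (Q := (0 : QuadraticForm R P)) ψ) hx
      rw [CliffordAlgebra.contractLeft_ι_mul, map_zero, sub_eq_zero] at h2
      exact h2
    have h3 := congrArg (ExteriorAlgebra.map π) key
    rw [map_smul, map_mul, ExteriorAlgebra.map_apply_ιMulti, ExteriorAlgebra.map_apply_ι, hv,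
      map_zero, zero_mul] at h3
    apply Subtype.ext
    rw [hmm]
    simpa using h3
  | zero => rw [smul_zero]
  | add y z _ _ hy hz => rw [smul_add, hy, hz, add_zero]
  | smul t y _ hy => rw [smul_comm, hy, smul_zero]

end B

end Groth.Agent.H3.ExtAnnEq
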