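import Mathlib
import Groth.Agent.Lib.Helper3.ExtAnnEq.A

/-!
# The annihilator of the top exterior power of `P / R v`, continued (helper3)
-/

set_option autoImplicit false
universe u
open TensorProduct

namespace Groth.Agent.H3.ExtAnnEq

section C
variable {R : Type u} [CommRing R] {P M : Type u} [AddCommGroup P] [Module R P]
  [Module.Finite R P] [Module.Projective R P] [AddCommGroup M] [Module R M]

/-- the ideal of values of linear forms at `v`. -/
def contentIdeal (v : P) : Ideal R := Ideal.span (Set.range fun ψ : Module.Dual R P => ψ v)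

omit [Module.Finite R P] in
/-- `1 ⊗ v = 0` in `T ⊗ P` when the content ideal of `v` dies in `T`. -/
theorem one_tmul_eq_zero {T : Type*} [CommRing T] [Algebra R T] (v : P)
    (hT : ∀ c ∈ contentIdeal v, algebraMap R T c = 0) : (1 : T) ⊗ₜ[R] v = 0 := by
  obtain ⟨s, hs⟩ := (Module.projective_def' (R := R) (P := P)).mp inferInstance
  have hv : v = Finsupp.linearCombination R id (s v) := (LinearMap.congr_fun hs v).symm
  rw [hv, Finsupp.linearCombination_apply, Finsupp.sum, TensorProduct.tmul_sum]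
  refine Finset.sum_eq_zero fun p _ => ?_
  have hc : (s v) p ∈ contentIdeal v :=
    Ideal.subset_span ⟨(Finsupp.lapply p) ∘ₗ s, rfl⟩
  rw [TensorProduct.tmul_smul, TensorProduct.smul_tmul', Algebra.smul_def, mul_one, hT _ hc,
    TensorProduct.zero_tmul]

theorem mem_contentIdeal_of_mem_annihilator (n : ℕ)
    (hn : ∀ p : PrimeSpectrum R, Module.rankAtStalk P p = n)
    (π : P →ₗ[R] M) (hπ : Function.Surjective π) (v : P)
    (hker : LinearMap.ker π ≤ Submodule.span R {v})
    (r : R) (hr : r ∈ (⋀[R]^n M).annihilator) : r ∈ contentIdeal v := by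
  by_contra hr'
  let 𝔮 : Ideal R := Submodule.comap (LinearMap.toSpanSingleton R R r) (contentIdeal v)
  have hq_mem : ∀ s : R, s ∈ 𝔮 ↔ s * r ∈ contentIdeal v := fun s => by
    show LinearMap.toSpanSingleton R R r s ∈ contentIdeal v ↔ _
    rw [LinearMap.toSpanSingleton_apply, smul_eq_mul]
  have hq : 𝔮 ≠ ⊤ := by
    intro h
    have h1 : (1 : R) ∈ 𝔮 := h ▸ Submodule.mem_top
    rw [hq_mem, one_mul] at h1
    exact hr' h1
  obtain ⟨𝔪, h𝔪, hq𝔪⟩ := Ideal.exists_le_maximal 𝔮 hq
  haveI : 𝔪.IsPrime := h𝔪.isPrime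
  have hc𝔪 : contentIdeal v ≤ 𝔪 := fun c hc =>
    hq𝔪 ((hq_mem c).mpr ((contentIdeal v).mul_mem_right r hc))
  let Rm := Localization.AtPrime 𝔪
  let J : Ideal Rm := Ideal.map (algebraMap R Rm) (contentIdeal v)
  have hJ : J ≠ ⊤ := by
    intro h
    have h1 : J ≤ IsLocalRing.maximalIdeal Rm := by
      rw [Ideal.map_le_iff_le_comap]
      intro c hc
      have : c ∈ Ideal.under R (IsLocalRing.maximalIdeal Rm) := by
        rw [Localization.AtPrime.under_maximalIdeal]
        exact hc𝔪 hc
      exact this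
    rw [h] at h1
    exact (IsLocalRing.maximalIdeal.isMaximal Rm).ne_top (top_le_iff.mp h1)
  let T := Rm ⧸ J
  haveI : Nontrivial T := Ideal.Quotient.nontrivial_iff.mpr hJ
  haveI : IsLocalRing T :=
    IsLocalRing.of_surjective' (Ideal.Quotient.mk J) Ideal.Quotient.mk_surjective
  have hT : ∀ c ∈ contentIdeal v, algebraMap R T c = 0 := fun c hc => by
    rw [IsScalarTower.algebraMap_apply R Rm T]
    exact Ideal.Quotient.eq_zero_iff_mem.mpr (Ideal.mem_map_of_mem _ hc)
  let Q := T ⊗[R] P
  haveI : Module.Free T Q := Module.free_of_flat_of_isLocalRing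
  have hrank : Module.finrank T Q = n := by
    have e1 := Module.rankAtStalk_eq_finrank_of_free (R := T) (M := Q)
    have e2 := congrFun e1 (IsLocalRing.closedPoint T)
    rw [Module.rankAtStalk_baseChange, hn] at e2
    exact_mod_cast e2.symm
  let b : Module.Basis (Fin n) T Q := Module.finBasisOfFinrankEq T Q hrank
  let f : P →ₗ[R] Q := TensorProduct.mk R T P 1
  have hfv : f v = 0 := one_tmul_eq_zero v hT
  have hkf : LinearMap.ker π ≤ LinearMap.ker f := by
    refine hker.trans ?_
    rw [Submodule.span_singleton_le_iff_mem, LinearMap.mem_ker]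
    exact hfv
  let ℓ : M →ₗ[R] Q :=
    ((LinearMap.ker π).liftQ f hkf) ∘ₗ (π.quotKerEquivOfSurjective hπ).symm.toLinearMap
  have hℓ : ∀ p : P, ℓ (π p) = f p := fun p => by
    have h1 : (π.quotKerEquivOfSurjective hπ).symm (π p) = Submodule.Quotient.mk p := by
      rw [LinearEquiv.symm_apply_eq, LinearMap.quotKerEquivOfSurjective_apply_mk]
    show ((LinearMap.ker π).liftQ f hkf) ((π.quotKerEquivOfSurjective hπ).symm (π p)) = f p
    rw [h1]
    exact Submodule.liftQ_apply _ _ _
  have hspan : Submodule.span T (Set.range ℓ) = ⊤ := by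
    rw [eq_top_iff]
    rintro y -
    induction y using TensorProduct.induction_on with
    | zero => exact zero_mem _
    | tmul t p =>
      have h1 : t ⊗ₜ[R] p = t • ℓ (π p) := by
        rw [hℓ]
        show _ = t • ((1 : T) ⊗ₜ[R] p)
        rw [TensorProduct.smul_tmul', smul_eq_mul, mul_one]
      rw [h1]
      exact Submodule.smul_mem _ _ (Submodule.subset_span ⟨_, rfl⟩)
    | add y z hy hz => exact add_mem hy hz
  have h0 : algebraMap R T r = 0 :=
    algebraMap_eq_zero_of_mem_annihilator n ℓ hspan b r hr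
  rw [IsScalarTower.algebraMap_apply R Rm T] at h0
  have h1 : algebraMap R Rm r ∈ J := Ideal.Quotient.eq_zero_iff_mem.mp h0
  rw [IsLocalization.mem_map_algebraMap_iff 𝔪.primeCompl] at h1
  obtain ⟨⟨c, s⟩, hcs⟩ := h1
  rw [← map_mul, IsLocalization.eq_iff_exists 𝔪.primeCompl] at hcs
  obtain ⟨s', hs'⟩ := hcs
  have h2 : ((s' : R) * (s : R)) * r ∈ contentIdeal v := by
    have : ((s' : R) * (s : R)) * r = (s' : R) * (c : R) := by
      rw [← hs']; ring
    rw [this]
    exact (contentIdeal v).mul_mem_left _ c.2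
  have h3 : (s' : R) * (s : R) ∈ 𝔪 := hq𝔪 ((hq_mem _).mpr h2)
  rcases (‹𝔪.IsPrime›).mem_or_mem h3 with h | h
  · exact s'.2 h
  · exact s.2 h

/-- **The annihilator of `⋀ⁿ (P / R v)`** for `P` finite projective of rank `n`. -/
theorem annihilator_eq_contentIdeal (n : ℕ)
    (hn : ∀ p : PrimeSpectrum R, Module.rankAtStalk P p = n)
    (π : P →ₗ[R] M) (hπ : Function.Surjective π) (v : P) (hv : π v = 0)
    (hker : LinearMap.ker π ≤ Submodule.span R {v}) :
    (⋀[R]^n M).annihilator = contentIdeal v := by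
  apply le_antisymm
  · intro r hr
    exact mem_contentIdeal_of_mem_annihilator n hn π hπ v hker r hr
  · refine Ideal.span_le.mpr ?_
    rintro _ ⟨ψ, rfl⟩
    refine dual_apply_mem_annihilator n ?_ π hπ v hv ψ
    intro x
    refine exteriorPower_eq_zero_of_finrank_lt P (n + 1) (fun p => ?_) x
    have := Module.rankAtStalk_eq (M := P) p
    rw [hn] at this
    show Module.finrank p.asIdeal.ResidueField (p.asIdeal.Fiber P) < n + 1
    omega

end C

end Groth.Agent.H3.ExtAnnEq
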