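import Mathlib
import Groth.Agent.Lib.Helper3.ExtAnnEq.B

/-!
# The annihilator of `⋀ⁿ Ω` of a hypersurface in a smooth algebra (helper3)
-/

set_option autoImplicit false
universe u
open TensorProduct KaehlerDifferential

namespace Groth.Agent.H3.ExtAnnEq

theorem main14477 (A B R : Type u) [CommRing A] [CommRing B] [CommRing R]
    [Algebra A B] [Algebra B R] [Algebra A R] [IsScalarTower A B R] [Algebra.Smooth A B] (n : ℕ)
    (hn : ∀ p : PrimeSpectrum B, Module.rankAtStalk (Ω[B⁄A]) p = n)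
    (g : B) (hsurj : Function.Surjective (algebraMap B R))
    (hker : RingHom.ker (algebraMap B R) = Ideal.span {g}) :
    (⋀[R]^n (Ω[R⁄A])).annihilator =
      Ideal.span (Set.range fun φ : Ω[B⁄A] →ₗ[B] B =>
        algebraMap B R (φ (KaehlerDifferential.D A B g))) := by
  let π : R ⊗[B] Ω[B⁄A] →ₗ[R] Ω[R⁄A] := KaehlerDifferential.mapBaseChange A B R
  have hπ : Function.Surjective π := KaehlerDifferential.mapBaseChange_surjective A B R hsurj
  let v : R ⊗[B] Ω[B⁄A] := (1 : R) ⊗ₜ[B] KaehlerDifferential.D A B g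
  have hg0 : algebraMap B R g = 0 := by
    have : g ∈ RingHom.ker (algebraMap B R) := by
      rw [hker]; exact Ideal.mem_span_singleton_self g
    exact this
  have hv : π v = 0 := by
    show KaehlerDifferential.mapBaseChange A B R ((1 : R) ⊗ₜ[B] KaehlerDifferential.D A B g) = 0
    rw [KaehlerDifferential.mapBaseChange_tmul, KaehlerDifferential.map_D, hg0, map_zero,
      smul_zero]
  have hsm : ∀ (b : B) (x : Ω[B⁄A]), (1 : R) ⊗ₜ[B] (b • x) =
      algebraMap B R b • ((1 : R) ⊗ₜ[B] x) := fun b x => by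
    rw [← TensorProduct.smul_tmul, Algebra.smul_def, mul_one, TensorProduct.smul_tmul',
      smul_eq_mul, mul_one]
  have hkerπ : LinearMap.ker π ≤ Submodule.span R {v} := by
    intro y hy
    have hex := KaehlerDifferential.exact_kerCotangentToTensor_mapBaseChange A B R hsurj
    obtain ⟨c, rfl⟩ := (hex y).mp (LinearMap.mem_ker.mp hy)
    obtain ⟨⟨x, hx⟩, rfl⟩ := Ideal.toCotangent_surjective _ c
    rw [KaehlerDifferential.kerCotangentToTensor_toCotangent]
    have hx' : x ∈ Ideal.span {g} := hker ▸ hx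
    obtain ⟨b, rfl⟩ := Ideal.mem_span_singleton'.mp hx'
    show (1 : R) ⊗ₜ[B] KaehlerDifferential.D A B (b * g) ∈ _
    rw [Derivation.leibniz, TensorProduct.tmul_add, hsm, hsm, hg0, zero_smul, add_zero]
    exact Submodule.smul_mem _ _ (Submodule.mem_span_singleton_self v)
  have hn' : ∀ p : PrimeSpectrum R, Module.rankAtStalk (R ⊗[B] Ω[B⁄A]) p = n := fun p => by
    rw [Module.rankAtStalk_baseChange]; exact hn _
  rw [annihilator_eq_contentIdeal n hn' π hπ v hv hkerπ]
  unfold contentIdeal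
  apply le_antisymm
  · refine Ideal.span_le.mpr ?_
    rintro _ ⟨ψ, rfl⟩
    let ψ' : Ω[B⁄A] →ₗ[B] R :=
      { toFun := fun x => ψ ((1 : R) ⊗ₜ[B] x)
        map_add' := fun x y => by rw [TensorProduct.tmul_add, map_add]
        map_smul' := fun b x => by
          rw [RingHom.id_apply, hsm, map_smul, smul_eq_mul, Algebra.smul_def] }
    obtain ⟨φ, hφ⟩ := Module.projective_lifting_property (Algebra.linearMap B R) ψ' hsurj
    refine Ideal.subset_span ⟨φ, ?_⟩
    exact LinearMap.congr_fun hφ (KaehlerDifferential.D A B g)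
  · refine Ideal.span_le.mpr ?_
    rintro _ ⟨φ, rfl⟩
    refine Ideal.subset_span ⟨LinearMap.liftBaseChange R ((Algebra.linearMap B R) ∘ₗ φ), ?_⟩
    show LinearMap.liftBaseChange R ((Algebra.linearMap B R) ∘ₗ φ)
      ((1 : R) ⊗ₜ[B] KaehlerDifferential.D A B g) = _
    rw [LinearMap.liftBaseChange_tmul, one_smul]
    rfl

end Groth.Agent.H3.ExtAnnEq
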